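import Groth.Prelude.Def_W4c5algebraiztannakaNis
import Groth.Agent.H23.RedSub
import Mathlib

/-!
Nisnevich covers of bounded length: chains, base change, composition.
-/

open CategoryTheory AlgebraicGeometry Topology Limits W4c5algebraiztannaka

universe u

namespace Groth.Agent.NisCov7

variable {X Y Y' U : Scheme.{u}}

/-- `C` is reached by a chain of `n` steps with sections -/
def Chain (f : U ⟶ Y) : ℕ → Set Y → Prop
  | 0, C => C = ∅
  | n + 1, C => ∃ C', Chain f n C' ∧ C' ⊆ C ∧ IsClosed C ∧ IsConstructible C ∧ HasSectOver f (C \ C')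

theorem Chain.closed {f : U ⟶ Y} {n : ℕ} {C : Set Y} (h : Chain f n C) : IsClosed C ∧ IsConstructible C := by
  cases n with
  | zero => rw [show C = ∅ from h]; exact ⟨isClosed_empty, .empty⟩
  | succ n => obtain ⟨C', -, -, h1, h2, -⟩ := h; exact ⟨h1, h2⟩

theorem chain_of_flag {f : U ⟶ Y} {m : ℕ} (h : IsNisCoverLen f m) : Chain f m Set.univ := by
  obtain ⟨Z, h0, hlast, hmono, hcl, hsect⟩ := h.flag
  have : ∀ k : Fin (m + 1), Chain f k (Z k) := by
    intro k
    induction k using Fin.induction with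
    | zero => exact h0
    | succ i ih =>
      exact ⟨Z i.castSucc, ih, hmono (Fin.castSucc_le_succ i), (hcl _).1, (hcl _).2, hsect i⟩
  have h1 := this (Fin.last m)
  rwa [hlast, Fin.val_last] at h1

theorem exists_flag {f : U ⟶ Y} {n : ℕ} : ∀ {C : Set Y}, Chain f n C → ∃ Z : Fin (n + 1) → Set Y,
    Z 0 = ∅ ∧ Z (Fin.last n) = C ∧ Monotone Z ∧ (∀ k, IsClosed (Z k) ∧ IsConstructible (Z k)) ∧
    ∀ k : Fin n, HasSectOver f (Z k.succ \ Z k.castSucc) := by
  induction n with
  | zero =>
    intro C h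
    exact ⟨fun _ => C, h, rfl, monotone_const, fun _ => h.closed, fun k => k.elim0⟩
  | succ n ih =>
    intro C h
    obtain ⟨C', h', hsub, hc, hcons, hs⟩ := h
    obtain ⟨Z, h0, hlast, hmono, hcl, hsect⟩ := ih h'
    refine ⟨Fin.snoc Z C, ?_, Fin.snoc_last _ _, ?_, fun k => ?_, fun k => ?_⟩
    · rw [← Fin.castSucc_zero, Fin.snoc_castSucc, h0]
    · rw [Fin.monotone_iff_le_succ]
      intro i
      induction i using Fin.lastCases with
      | last => rw [Fin.snoc_castSucc, Fin.succ_last, Fin.snoc_last, hlast]; exact hsub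
      | cast i => rw [Fin.snoc_castSucc, Fin.succ_castSucc, Fin.snoc_castSucc]; exact hmono (Fin.castSucc_le_succ i)
    · induction k using Fin.lastCases with
      | last => rw [Fin.snoc_last]; exact ⟨hc, hcons⟩
      | cast i => rw [Fin.snoc_castSucc]; exact hcl i
    · induction k using Fin.lastCases with
      | last => rw [Fin.snoc_castSucc, Fin.succ_last, Fin.snoc_last, hlast]; exact hs
      | cast i => rw [Fin.snoc_castSucc, Fin.succ_castSucc, Fin.snoc_castSucc]; exact hsect i

theorem isNisCoverLen_of_chain {f : U ⟶ Y} (hf : Etale f) {m : ℕ} (h : Chain f m Set.univ) :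
    IsNisCoverLen f m :=
  ⟨hf, exists_flag h⟩

/-- base change of a section -/
theorem HasSectOver.pullback {f : U ⟶ Y} {W : Set Y} (g : Y' ⟶ Y) (h : HasSectOver f W) :
    HasSectOver (pullback.snd f g) (g ⁻¹' W) := by
  obtain ⟨T, i, s, hi, hr, hs⟩ := h
  refine ⟨Limits.pullback i g, pullback.snd i g, pullback.lift (pullback.fst i g ≫ s) (pullback.snd i g)
    (by rw [Category.assoc, hs, pullback.condition]), inferInstance, ?_, pullback.lift_snd _ _ _⟩
  rw [← hr]
  exact Scheme.Pullback.range_snd i g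

theorem Chain.pullback {f : U ⟶ Y} (g : Y' ⟶ Y) {n : ℕ} : ∀ {C : Set Y}, Chain f n C →
    Chain (pullback.snd f g) n (g ⁻¹' C) := by
  induction n with
  | zero => intro C h; show g ⁻¹' C = ∅; rw [show C = ∅ from h, Set.preimage_empty]
  | succ n ih =>
    rintro C ⟨C', h', hsub, hc, hcons, hs⟩
    refine ⟨g ⁻¹' C', ih h', Set.preimage_mono hsub, hc.preimage g.continuous,
      g.isConstructible_preimage hcons, ?_⟩
    rw [← Set.preimage_sdiff]
    exact HasSectOver.pullback g hs

theorem isCompact_of_isConstructible [CompactSpace X] [QuasiSeparatedSpace X] {s : Set X}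
    (hs : IsConstructible s) : IsCompact s := by
  have : Nonempty X.affineOpens := ⟨⟨⊥, isAffineOpen_bot X⟩⟩
  have hb : TopologicalSpace.IsTopologicalBasis (Set.range fun A : X.affineOpens => ((A.1 : X.Opens) : Set X)) := by
    have h := X.isBasis_affineOpens
    rw [TopologicalSpace.Opens.IsBasis] at h
    convert h using 1
    ext t
    simp
  refine IsConstructible.induction_of_isTopologicalBasis (P := fun s _ => IsCompact s) _ hb
    (fun A => A.2.isCompact) (fun A t ht => ?_) (fun s _ t _ hs ht => hs.union ht) s hs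
  exact A.2.isCompact.diff (isOpen_biUnion fun B _ => B.1.2)

/-- image of a constructible set under an immersion with constructible image -/
theorem isConstructible_image [CompactSpace Y] [QuasiSeparatedSpace Y] {T : Scheme.{u}} (i : T ⟶ Y)
    [IsImmersion i] (hr : IsConstructible (Set.range i)) {E : Set T} (hE : IsConstructible E) :
    IsConstructible (i '' E) := by
  have hemb : IsEmbedding i := i.isEmbedding
  have hT : CompactSpace T := ⟨by
    rw [hemb.isCompact_iff, Set.image_univ]; exact isCompact_of_isConstructible hr⟩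
  induction hE using IsConstructible.empty_union_induction with
  | open_retrocompact U hUo hUc =>
    obtain ⟨O, hO, rfl⟩ := hemb.isInducing.isOpen_iff.1 hUo
    have hK : IsCompact (i '' (i ⁻¹' O)) := hUc.isCompact.image i.continuous
    have hOu : ∀ y ∈ i '' (i ⁻¹' O), ∃ A : Y.Opens, IsAffineOpen A ∧ y ∈ A ∧ (A : Set Y) ⊆ O := by
      rintro y ⟨t, ht, rfl⟩
      obtain ⟨A, hA, hy, hle⟩ := exists_isAffineOpen_mem_and_subset (x := i t) (U := ⟨O, hO⟩) ht
      exact ⟨A, hA, hy, hle⟩
    choose A hA hyA hAO using hOu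
    obtain ⟨S, hS⟩ := hK.elim_finite_subcover (fun y : i '' (i ⁻¹' O) => (A y.1 y.2 : Set Y))
      (fun y => (A y.1 y.2).2) (fun y hy => Set.mem_iUnion.2 ⟨⟨y, hy⟩, hyA y hy⟩)
    have e : i '' (i ⁻¹' O) = Set.range i ∩ ⋃ y ∈ S, (A y.1 y.2 : Set Y) := by
      refine subset_antisymm (fun y hy => ⟨Set.image_subset_range _ _ hy, hS hy⟩) ?_
      rintro y ⟨⟨t, rfl⟩, hy⟩
      obtain ⟨z, -, hz⟩ := Set.mem_iUnion₂.1 hy
      exact ⟨t, hAO z.1 z.2 hz, rfl⟩
    rw [e]
    exact hr.inter (.biUnion S.finite_toSet fun y _ => (hA y.1 y.2).isCompact.isConstructible (A y.1 y.2).2)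
  | union s hs t ht hs' ht' => rw [Set.image_union]; exact hs'.union ht'
  | compl s hs hs' =>
    rw [← Set.range_sdiff_image hemb.injective]
    exact hr.sdiff hs'

theorem HasSectOver.comp {U₁ U₂ : Scheme.{u}} {g₁ : U₁ ⟶ U₂} {g₂ : U₂ ⟶ Y} {T : Scheme.{u}} (i : T ⟶ Y)
    [IsImmersion i] (s : T ⟶ U₂) (hs : s ≫ g₂ = i) {W : Set U₂} (h : HasSectOver g₁ W) :
    HasSectOver (g₁ ≫ g₂) (i '' (s ⁻¹' W)) := by
  obtain ⟨T₁, i₁, s₁, hi₁, hr₁, hs₁⟩ := h
  refine ⟨Limits.pullback s i₁, pullback.fst s i₁ ≫ i, pullback.snd s i₁ ≫ s₁, inferInstance, ?_, ?_⟩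
  · rw [← hr₁]
    show Set.range (pullback.fst s i₁ ≫ i : _ ⟶ _) = _
    rw [Scheme.Hom.comp_base, TopCat.coe_comp, Set.range_comp]
    congr 1
    exact Scheme.Pullback.range_fst s i₁
  · simp only [Category.assoc]
    rw [reassoc_of% hs₁, ← pullback.condition_assoc, hs]

theorem Chain.comp [CompactSpace Y] [QuasiSeparatedSpace Y] {U₁ U₂ : Scheme.{u}} {g₁ : U₁ ⟶ U₂}
    {g₂ : U₂ ⟶ Y} {m₁ : ℕ} (h₁ : Chain g₁ m₁ Set.univ) {n : ℕ} : ∀ {C : Set Y}, Chain g₂ n C →
      Chain (g₁ ≫ g₂) (n * m₁) C := by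
  induction n with
  | zero => intro C h; rw [Nat.zero_mul]; exact h
  | succ n ih =>
    rintro C ⟨C', h', hsub, hc, hcons, T, i, s, hi, hr, hs⟩
    have key : ∀ (j : ℕ) (D : Set U₂), Chain g₁ j D → Chain (g₁ ≫ g₂) (n * m₁ + j) (C' ∪ i '' (s ⁻¹' D)) := by
      intro j
      induction j with
      | zero =>
        intro D hD
        rw [show D = ∅ from hD, Set.preimage_empty, Set.image_empty, Set.union_empty, Nat.add_zero]
        exact ih h'
      | succ j ihj =>
        rintro D ⟨D', hD', hsubD, hDc, hDcons, hsD⟩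
        refine ⟨_, ihj D' hD', Set.union_subset_union_right _ (Set.image_mono (Set.preimage_mono hsubD)), ?_, ?_, ?_⟩
        · obtain ⟨K, hK, hKe⟩ := i.isEmbedding.isInducing.isClosed_iff.1 (hDc.preimage s.continuous)
          have e : C' ∪ i '' (s ⁻¹' D) = C' ∪ (C ∩ K) := by
            rw [← hKe, Set.image_preimage_eq_inter_range]
            have hr' : Set.range i = C \ C' := hr
            rw [hr']
            ext y
            simp only [Set.mem_union, Set.mem_inter_iff, Set.mem_sdiff]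
            tauto
          rw [e]
          exact h'.closed.1.union (hc.inter hK)
        · refine h'.closed.2.union (isConstructible_image i ?_ (s.isConstructible_preimage hDcons))
          rw [show Set.range i = C \ C' from hr]
          exact hcons.sdiff h'.closed.2
        · have e : (C' ∪ i '' (s ⁻¹' D)) \ (C' ∪ i '' (s ⁻¹' D')) = i '' (s ⁻¹' (D \ D')) := by
            rw [Set.preimage_sdiff, Set.image_sdiff i.isEmbedding.injective]
            have hdis : ∀ y ∈ i '' (s ⁻¹' D), y ∉ C' := fun y hy => by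
              have : y ∈ C \ C' := hr ▸ Set.image_subset_range _ _ hy
              exact this.2
            ext y
            simp only [Set.mem_sdiff, Set.mem_union]
            constructor
            · rintro ⟨h1 | h1, h2⟩
              · exact absurd (Or.inl h1) h2
              · exact ⟨h1, fun h3 => h2 (Or.inr h3)⟩
            · rintro ⟨h1, h2⟩
              exact ⟨Or.inr h1, fun h3 => h3.elim (hdis y h1) h2⟩
          rw [e]
          exact HasSectOver.comp i s hs hsD
    have := key m₁ Set.univ h₁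
    rw [Set.preimage_univ, Set.image_univ, show Set.range i = C \ C' from hr, Set.union_sdiff_cancel hsub] at this
    rwa [Nat.succ_mul]

theorem isNisCoverLen_sigma_desc {k : ℕ} (V : Fin k → Y.Opens) [CompactSpace Y] [QuasiSeparatedSpace Y]
    (hV : ∀ i, IsCompact (V i : Set Y)) (hcov : ⨆ i, V i = ⊤) :
    IsNisCoverLen (Sigma.desc (fun i => (V i).ι) : (∐ fun i => ((V i : Y.Opens) : Scheme.{u})) ⟶ Y) k := by
  refine ⟨?_, ?_⟩
  · have : HasRingHomProperty @Etale.{u} RingHom.Etale := inferInstance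
    have : IsZariskiLocalAtSource @Etale.{u} := HasRingHomProperty.instIsZariskiLocalAtSource
    exact IsZariskiLocalAtSource.sigmaDesc (P := @Etale.{u}) fun i => inferInstance
  let Z : Fin (k + 1) → Set Y := fun j => (⋃ i ∈ {i : Fin k | (j : ℕ) ≤ i}, (V i : Set Y))ᶜ
  refine ⟨Z, ?_, ?_, ?_, fun j => ⟨?_, ?_⟩, fun j => ?_⟩
  · show _ᶜ = ∅
    rw [Set.compl_empty_iff, Set.eq_univ_iff_forall]
    intro y
    obtain ⟨i, hi⟩ := TopologicalSpace.Opens.mem_iSup.1 (hcov.ge (Set.mem_univ y : y ∈ (⊤ : Y.Opens)))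
    exact Set.mem_iUnion₂.2 ⟨i, Nat.zero_le _, hi⟩
  · show _ᶜ = Set.univ
    rw [Set.compl_univ_iff]
    simp only [Set.iUnion_eq_empty]
    exact fun i hi => absurd hi (by simp [Nat.not_le.2 i.2])
  · intro a b hab
    exact Set.compl_subset_compl.2 (Set.biUnion_subset_biUnion_left fun i hi => le_trans (Fin.le_def.1 hab) hi)
  · exact (isOpen_biUnion fun i _ => (V i).2).isClosed_compl
  · exact (IsConstructible.biUnion (Set.toFinite _) fun i _ => (hV i).isConstructible (V i).2).compl
  · have hsub : Z j.succ \ Z j.castSucc ⊆ (V j : Set Y) := by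
      rintro y ⟨h1, h2⟩
      obtain ⟨i, hi, hyi⟩ := Set.mem_iUnion₂.1 (not_not.1 h2)
      rcases (show (j : ℕ) ≤ i from hi).lt_or_eq with hlt | heq
      · exact absurd (Set.mem_iUnion₂.2 ⟨i, by simpa using hlt, hyi⟩) h1
      · rwa [Fin.ext heq]
    obtain ⟨T, t, ht, htr, hrange⟩ := Groth.Agent.H23.RedSub.exists_reduced_subscheme Y (S := Z j.succ \ Z j.castSucc)
      ((isOpen_biUnion fun i _ => (V i).2).isClosed_compl.isLocallyClosed.inter
        (isOpen_biUnion fun i _ => (V i).2).isClosed_compl.isOpen_compl.isLocallyClosed)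
    have hle : Set.range t ⊆ Set.range (V j).ι := by
      rw [hrange, Scheme.Opens.range_ι]; exact hsub
    exact ⟨T, t, IsOpenImmersion.lift (V j).ι t hle ≫ Sigma.ι (fun i => ((V i : Y.Opens) : Scheme.{u})) j, ht,
      hrange, by rw [Category.assoc, Sigma.ι_desc, IsOpenImmersion.lift_fac]⟩

end Groth.Agent.NisCov7
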