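import Groth.Agent.NisCov7.Basic
import Groth.Agent.QCoh.Pullback
import Groth.Agent.PicClLib.Basic
import Groth.Prelude.Def_FlatMod2

/-!
Generators along a Nisnevich cover.
-/

open CategoryTheory AlgebraicGeometry Limits

universe u

namespace Groth.Agent.NisCov7

/-- components generate after pulling back to an affine scheme -/
theorem span_of_epi_tilde {S : CommRingCat.{u}} (E : ModuleCat.{u} S) {U : Scheme.{u}} (z : Spec S ⟶ U)
    {N : ℕ} {L : U.Modules} (φ : FlatMod.freeMod U N ⟶ L) [Epi φ]
    (χ : (Scheme.Modules.pullback z).obj L ≅ (tilde.functor S).obj E) :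
    ∃ a : Fin N → E, Submodule.span S (Set.range a) = ⊤ := by
  obtain ⟨θ⟩ := PicClLib.nonempty_pullback_structureModule z
  let θ' : (tilde.functor S).obj (ModuleCat.of S S) ≅ (Scheme.Modules.pullback z).obj (Coh.structureModule U) :=
    tildeSelf ≪≫ θ.symm
  let α : Fin N → (ModuleCat.of S S ⟶ E) := fun k =>
    tilde.fullyFaithfulFunctor.preimage
      (θ'.hom ≫ (Scheme.Modules.pullback z).map (Sigma.ι (fun _ : Fin N => Coh.structureModule U) k ≫ φ) ≫ χ.hom)
  refine ⟨fun k => (α k).hom 1, ?_⟩
  set P : Submodule S E := Submodule.span S (Set.range fun k => (α k).hom 1)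
  let π : E ⟶ ModuleCat.of S (E ⧸ P) := ModuleCat.ofHom P.mkQ
  have h0 : ∀ k, α k ≫ π = 0 := by
    intro k
    refine ModuleCat.hom_ext (LinearMap.ext_ring ?_)
    change P.mkQ ((α k).hom 1) = 0
    exact (Submodule.Quotient.mk_eq_zero P).2 (Submodule.subset_span ⟨k, rfl⟩)
  have hπ : π = 0 := by
    apply (tilde.functor S).map_injective
    rw [← cancel_epi χ.hom, ← cancel_epi ((Scheme.Modules.pullback z).map φ)]
    apply ((Scheme.Modules.pullbackPushforwardAdjunction z).homEquiv _ _).injective
    rw [Adjunction.homEquiv_naturality_left, Adjunction.homEquiv_naturality_left]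
    refine Sigma.hom_ext _ _ fun k => ?_
    rw [← Category.assoc, ← Category.assoc, ← Adjunction.homEquiv_naturality_left,
      ← Adjunction.homEquiv_naturality_left]
    congr 1
    rw [← cancel_epi θ'.hom]
    have h1 : θ'.hom ≫ (Scheme.Modules.pullback z).map (Sigma.ι (fun _ : Fin N => Coh.structureModule U) k ≫ φ) ≫ χ.hom =
        (tilde.functor S).map (α k) := (tilde.fullyFaithfulFunctor.map_preimage _).symm
    have h2 : (tilde.functor S).map (α k) ≫ (tilde.functor S).map π =
        (tilde.functor S).map (α k) ≫ (tilde.functor S).map 0 := by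
      rw [← Functor.map_comp, ← Functor.map_comp, h0, comp_zero]
    rw [← h1] at h2
    simpa only [Category.assoc] using h2
  refine eq_top_iff.2 fun x _ => ?_
  rw [← Submodule.Quotient.mk_eq_zero P]
  have := LinearMap.congr_fun (congrArg ModuleCat.Hom.hom hπ) x
  exact this

theorem span_of_epi {R S : CommRingCat.{u}} (q : R ⟶ S) (M : ModuleCat.{u} R) {U : Scheme.{u}}
    (f : U ⟶ Spec R) (z : Spec S ⟶ U) (hz : z ≫ f = Spec.map q) {N : ℕ}
    (φ : FlatMod.freeMod U N ⟶ (Scheme.Modules.pullback f).obj (tilde M)) [Epi φ] :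
    ∃ a : Fin N → ((ModuleCat.extendScalars.{_, _, u} q.hom).obj M : ModuleCat.{u} S),
      Submodule.span S (Set.range a) = ⊤ :=
  span_of_epi_tilde _ z φ
    ((Scheme.Modules.pullbackComp z f).app (tilde M) ≪≫ (Scheme.Modules.pullbackCongr hz).app (tilde M) ≪≫
      (QCoh.tildePullbackIso q).app M)

/-- a surjective ring map: spanning after extension of scalars lifts -/
theorem exists_span_sup_smul {R S : CommRingCat.{u}} (q : R ⟶ S) (hq : Function.Surjective q)
    (M : ModuleCat.{u} R) {N : ℕ}
    (a : Fin N → ((ModuleCat.extendScalars.{_, _, u} q.hom).obj M : ModuleCat.{u} S))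
    (ha : Submodule.span S (Set.range a) = ⊤) :
    ∃ s : Fin N → M, Submodule.span R (Set.range s) ⊔ RingHom.ker q.hom • (⊤ : Submodule R M) = ⊤ := by
  let : Algebra R S := q.hom.toAlgebra
  let V := TensorProduct R S M
  have hs : Function.Surjective (TensorProduct.mk R S M 1) := TensorProduct.mk_surjective R M S hq
  choose s hs' using fun k => hs (show V from a k)
  refine ⟨s, eq_top_iff.2 fun m _ => ?_⟩
  have ha' : Submodule.span S (Set.range fun k => (show V from a k)) = ⊤ := ha
  have hm : (TensorProduct.mk R S M 1 m) ∈ Submodule.span S (Set.range fun k => (show V from a k)) :=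
    ha' ▸ trivial
  rw [← Submodule.restrictScalars_mem R, Submodule.restrictScalars_span R S hq] at hm
  rw [show (fun k => (show V from a k)) = (TensorProduct.mk R S M 1) ∘ s from funext fun k => (hs' k).symm,
    Set.range_comp, ← Submodule.map_span] at hm
  obtain ⟨w, hw, hwm⟩ := hm
  have hker : TensorProduct.mk R S M 1 (m - w) = 0 := by rw [map_sub, hwm, sub_self]
  have e : (R ⧸ RingHom.ker q.hom) ≃ₐ[R] S :=
    (Ideal.quotientEquivAlgOfEq R rfl).trans
      (Ideal.quotientKerAlgEquivOfSurjective (f := Algebra.ofId R S) hq)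
  have h1 : (1 : R ⧸ RingHom.ker q.hom) ⊗ₜ[R] (m - w) = 0 := by
    apply (LinearEquiv.rTensor M e.toLinearEquiv).injective
    simpa [TensorProduct.tmul_sub] using hker
  have h2 : Submodule.Quotient.mk (m - w) = (0 : M ⧸ RingHom.ker q.hom • (⊤ : Submodule R M)) := by
    have := congrArg (TensorProduct.quotTensorEquivQuotSMul M (RingHom.ker q.hom)) h1
    simpa using this
  rw [Submodule.Quotient.mk_eq_zero] at h2
  rw [← add_sub_cancel w m]
  exact Submodule.add_mem_sup hw h2

/-- one step of the chain -/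
theorem gen_step {R : CommRingCat.{u}} (M : ModuleCat.{u} R) [Module.Finite R M]
    {U : Scheme.{u}} (f : U ⟶ Spec R) {N n : ℕ}
    (hloc : ∀ (S : CommRingCat.{u}) (q : R ⟶ S) (z : Spec S ⟶ U), z ≫ f = Spec.map q →
      ∃ a : Fin N → ((ModuleCat.extendScalars.{_, _, u} q.hom).obj M : ModuleCat.{u} S),
        Submodule.span S (Set.range a) = ⊤)
    {C C' : Set (Spec R)} (hc : IsClosed C) {T : Scheme.{u}} (i : T ⟶ Spec R) [IsImmersion i] (σ : T ⟶ U)
    (hσ : σ ≫ f = i) (hr : Set.range i = C \ C') (s : Fin (N * n) → M)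
    (hs : ∀ p : PrimeSpectrum R, p ∈ (show Set (PrimeSpectrum R) from C') →
      p ∉ Module.support R (M ⧸ Submodule.span R (Set.range s))) :
    ∃ s : Fin (N * (n + 1)) → M, ∀ p : PrimeSpectrum R, p ∈ (show Set (PrimeSpectrum R) from C) →
      p ∉ Module.support R (M ⧸ Submodule.span R (Set.range s)) := by
  set P := Submodule.span R (Set.range s)
  set D : Set (PrimeSpectrum R) := Module.support R (M ⧸ P) ∩ C
  have hD : IsClosed D := by
    refine IsClosed.inter ?_ hc
    rw [Module.support_eq_zeroLocus]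
    exact PrimeSpectrum.isClosed_zeroLocus _
  set J := PrimeSpectrum.vanishingIdeal D
  have hDJ : PrimeSpectrum.zeroLocus (J : Set R) = D := by
    rw [PrimeSpectrum.zeroLocus_vanishingIdeal_eq_closure, hD.closure_eq]
  have hJrad : J.IsRadical := by
    intro x hx
    rw [PrimeSpectrum.mem_vanishingIdeal]
    intro p hp
    obtain ⟨k, hk⟩ := hx
    exact p.isPrime.mem_of_pow_mem k ((PrimeSpectrum.mem_vanishingIdeal _ _).1 hk p hp)
  let S : CommRingCat.{u} := CommRingCat.of (R ⧸ J)
  let q : R ⟶ S := CommRingCat.ofHom (Ideal.Quotient.mk J)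
  have : _root_.IsReduced S := (Ideal.isRadical_iff_quotient_reduced J).1 hJrad
  have hle : Set.range (Spec.map q) ⊆ Set.range i := by
    rw [hr]
    rintro _ ⟨x, rfl⟩
    have hxD : (Spec.map q x : PrimeSpectrum R) ∈ D := by
      rw [← hDJ]
      intro r hr
      show q r ∈ x.asIdeal
      rw [show q r = 0 from Ideal.Quotient.eq_zero_iff_mem.2 hr]
      exact zero_mem _
    exact ⟨hxD.2, fun hx => hs _ hx hxD.1⟩
  obtain ⟨l, hl⟩ := H23.RedSub.exists_lift (Spec.map q) i hle
  obtain ⟨a, ha⟩ := hloc S q (l ≫ σ) (by rw [Category.assoc, hσ, hl])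
  obtain ⟨t, ht⟩ := exists_span_sup_smul q Ideal.Quotient.mk_surjective M a ha
  rw [show RingHom.ker q.hom = J from Ideal.mk_ker] at ht
  refine ⟨fun k : Fin (N * (n + 1)) => Fin.append s t (k.cast (Nat.mul_succ N n)), fun p hp hsupp => ?_⟩
  have hrange : Set.range (fun k : Fin (N * (n + 1)) => Fin.append s t (k.cast (Nat.mul_succ N n))) = Set.range s ∪ Set.range t := by
    ext m
    constructor
    · rintro ⟨k, rfl⟩
      show Fin.append s t (k.cast _) ∈ _
      induction k.cast (Nat.mul_succ N n) using Fin.addCases with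
      | left k => rw [Fin.append_left]; exact Or.inl ⟨k, rfl⟩
      | right k => rw [Fin.append_right]; exact Or.inr ⟨k, rfl⟩
    · rintro (⟨k, rfl⟩ | ⟨k, rfl⟩)
      · exact ⟨(Fin.castAdd N k).cast (Nat.mul_succ N n).symm, by simp⟩
      · exact ⟨(Fin.natAdd (N * n) k).cast (Nat.mul_succ N n).symm, by simp⟩
  rw [hrange] at hsupp
  set P' := Submodule.span R (Set.range s ∪ Set.range t)
  have hPP' : P ≤ P' := Submodule.span_mono Set.subset_union_left
  have hpD : p ∈ D := by
    refine ⟨?_, hp⟩
    exact Module.support_subset_of_surjective (Submodule.mapQ P P' LinearMap.id (by simpa using hPP'))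
      (fun x => by
        obtain ⟨x, rfl⟩ := Submodule.Quotient.mk_surjective _ x
        exact ⟨Submodule.Quotient.mk x, rfl⟩) hsupp
  have htop : (⊤ : Submodule R (M ⧸ P')) ≤ J • ⊤ := by
    intro x _
    obtain ⟨m, rfl⟩ := Submodule.Quotient.mk_surjective _ x
    obtain ⟨w, hw, v, hv, rfl⟩ := Submodule.mem_sup.1 (ht.ge Submodule.mem_top : m ∈ Submodule.span R (Set.range t) ⊔ J • ⊤)
    rw [Submodule.Quotient.mk_add, (Submodule.Quotient.mk_eq_zero P').2
      (Submodule.span_mono Set.subset_union_right hw), zero_add]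
    have := Submodule.mem_map_of_mem (f := P'.mkQ) hv
    rw [Submodule.map_smul''] at this
    exact Submodule.smul_mono le_rfl le_top this
  obtain ⟨r, hr1, hr0⟩ := Submodule.exists_sub_one_mem_and_smul_eq_zero_of_fg_of_le_smul J ⊤
    Module.Finite.fg_top htop
  refine Module.notMem_support_iff'.2 (fun x => ⟨r, fun hrp => ?_, hr0 x trivial⟩) hsupp
  have h1 : r - 1 ∈ p.asIdeal := by
    rw [← hDJ] at hpD
    exact hpD hr1
  exact p.isPrime.ne_top ((Ideal.eq_top_iff_one _).2 (by simpa using sub_mem hrp h1))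

theorem exists_generators_of_chain {R : CommRingCat.{u}} (M : ModuleCat.{u} R) [Module.Finite R M]
    {U : Scheme.{u}} (f : U ⟶ Spec R) {N : ℕ}
    (hloc : ∀ (S : CommRingCat.{u}) (q : R ⟶ S) (z : Spec S ⟶ U), z ≫ f = Spec.map q →
      ∃ a : Fin N → ((ModuleCat.extendScalars.{_, _, u} q.hom).obj M : ModuleCat.{u} S),
        Submodule.span S (Set.range a) = ⊤) {n : ℕ} :
    ∀ {C : Set (Spec R)}, Chain f n C → ∃ s : Fin (N * n) → M,
      ∀ p : PrimeSpectrum R, p ∈ (show Set (PrimeSpectrum R) from C) →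
        p ∉ Module.support R (M ⧸ Submodule.span R (Set.range s)) := by
  induction n with
  | zero => intro C h; exact ⟨fun k => 0, fun p hp => absurd (show p ∈ (∅ : Set (Spec R)) from h ▸ hp) (Set.notMem_empty _)⟩
  | succ n ih =>
    rintro C ⟨C', h', -, hc, -, T, i, σ, hi, hr, hσ⟩
    obtain ⟨s, hs⟩ := ih h'
    exact gen_step M f hloc hc i σ hσ hr s hs

theorem exists_generators_of_local {R : CommRingCat.{u}} (M : ModuleCat.{u} R) [Module.Finite R M]
    {U : Scheme.{u}} (f : U ⟶ Spec R) {N : ℕ}
    (hloc : ∀ (S : CommRingCat.{u}) (q : R ⟶ S) (z : Spec S ⟶ U), z ≫ f = Spec.map q →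
      ∃ a : Fin N → ((ModuleCat.extendScalars.{_, _, u} q.hom).obj M : ModuleCat.{u} S),
        Submodule.span S (Set.range a) = ⊤) {n : ℕ}
    (h : Chain f n Set.univ) : ∃ s : Fin (N * n) → M, Submodule.span R (Set.range s) = ⊤ := by
  obtain ⟨s, hs⟩ := exists_generators_of_chain M f hloc h
  refine ⟨s, ?_⟩
  rw [← Submodule.Quotient.subsingleton_iff, ← Module.support_eq_empty_iff (R := R)]
  exact Set.eq_empty_iff_forall_notMem.2 fun p => hs p trivial

theorem exists_generators {R : CommRingCat.{u}} (M : ModuleCat.{u} R) [Module.Finite R M]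
    {U : Scheme.{u}} (f : U ⟶ Spec R) {N : ℕ}
    (φ : FlatMod.freeMod U N ⟶ (Scheme.Modules.pullback f).obj (tilde M)) [Epi φ] {n : ℕ}
    (h : Chain f n Set.univ) : ∃ s : Fin (N * n) → M, Submodule.span R (Set.range s) = ⊤ :=
  exists_generators_of_local M f (fun _ q z hz => span_of_epi q M f z hz φ) h

/-- affine source: the local hypothesis of `exists_generators_of_local` from generators over `B` -/
theorem span_extendScalars {R B : CommRingCat.{u}} (φ : R ⟶ B) (M : ModuleCat.{u} R) {N : ℕ}
    (a : Fin N → ((ModuleCat.extendScalars.{_, _, u} φ.hom).obj M : ModuleCat.{u} B))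
    (ha : Submodule.span B (Set.range a) = ⊤) (S : CommRingCat.{u}) (q : R ⟶ S)
    (z : Spec S ⟶ Spec B) (hz : z ≫ Spec.map φ = Spec.map q) :
    ∃ a' : Fin N → ((ModuleCat.extendScalars.{_, _, u} q.hom).obj M : ModuleCat.{u} S),
      Submodule.span S (Set.range a') = ⊤ := by
  have hg : φ ≫ Spec.preimage z = q := Spec.map_injective (by rw [Spec.map_comp, Spec.map_preimage, hz])
  let : Algebra R B := φ.hom.toAlgebra
  let : Algebra R S := q.hom.toAlgebra
  let g : B →ₐ[R] S := ⟨(Spec.preimage z).hom, fun r => by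
    show ((φ ≫ Spec.preimage z).hom) r = _
    rw [hg]; rfl⟩
  let V := TensorProduct R B M
  let W := TensorProduct R S M
  let L : V →ₗ[R] W := LinearMap.rTensor M g.toLinearMap
  refine ⟨fun k => (show W from L (show V from a k)), ?_⟩
  have ha' : Submodule.span B (Set.range fun k => (show V from a k)) = ⊤ := ha
  show Submodule.span S (Set.range fun k => L (show V from a k)) = (⊤ : Submodule S W)
  set P : Submodule S W := Submodule.span S (Set.range fun k => L (show V from a k))
  have hsmul : ∀ (b : B) (v : V), L (b • v) = g b • L v := by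
    intro b v
    induction v using TensorProduct.induction_on with
    | zero => simp
    | tmul b' m =>
      change (g (b * b')) ⊗ₜ[R] m = g b • ((g b') ⊗ₜ[R] m)
      rw [map_mul, TensorProduct.smul_tmul', smul_eq_mul]
    | add v w hv hw => rw [smul_add, map_add, map_add, smul_add, hv, hw]
  have hmem : ∀ v : V, L v ∈ P := by
    intro v
    have hv : v ∈ Submodule.span B (Set.range fun k => (show V from a k)) := ha' ▸ trivial
    induction hv using Submodule.span_induction with
    | mem x hx => obtain ⟨k, rfl⟩ := hx; exact Submodule.subset_span ⟨k, rfl⟩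
    | zero => rw [map_zero]; exact zero_mem _
    | add x y _ _ hx hy => rw [map_add]; exact add_mem hx hy
    | smul b x _ hx => rw [hsmul]; exact P.smul_mem _ hx
  refine eq_top_iff.2 fun w _ => ?_
  induction w using TensorProduct.induction_on with
  | zero => exact zero_mem _
  | tmul s m =>
    have := P.smul_mem s (hmem (TensorProduct.tmul R (1 : B) m))
    change s • ((g 1) ⊗ₜ[R] m) ∈ P at this
    rwa [map_one, TensorProduct.smul_tmul', smul_eq_mul, mul_one] at this
  | add v w hv hw => exact add_mem (hv trivial) (hw trivial)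

end Groth.Agent.NisCov7
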